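import Groth.Agent.Pic13.H547.RelRep
import Groth.Agent.Ega3A.PicEtSh

/-!
# Étale local closed conditions on a scheme are closed subschemes

`exists_closed'`: let `L T a` be a condition on the points `a : T ⟶ P₀` which is stable under base change and étale
local, and which étale locally on `P₀` is given by a closed subscheme of the chart. Then it is given by a closed
subscheme of `P₀`. `exists_closed` is the form with `Mono`, `IsAffineHom`, `LocallyOfFiniteType`.
-/

set_option autoImplicit false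
universe u

open CategoryTheory CategoryTheory.Limits AlgebraicGeometry Opposite
open Groth.Agent.Picfga.OverRep Groth.Agent.Models2.QuoRep Groth.Agent.Pic13.H547.RelRep
open Groth.Agent.Ega3A.PicEtSh (ECov)

namespace Groth.Agent.Pic13.H243.ClosedSub

variable {S : Scheme.{u}} (P₀ : Over S) (L : ∀ T : Over S, (T ⟶ P₀) → Prop)

/-- The subsheaf of points which satisfy the condition. -/
def sub (hbc : ∀ {T T' : Over S} (g : T' ⟶ T) (a : T ⟶ P₀), L T a → L T' (g ≫ a)) :
    (Over S)ᵒᵖ ⥤ Type u where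
  obj T := { a : T.unop ⟶ P₀ // L T.unop a }
  map g := ↾(fun x => ⟨g.unop ≫ x.1, hbc g.unop x.1 x.2⟩)
  map_id T := by
    refine ConcreteCategory.hom_ext _ _ fun x => Subtype.ext ?_
    exact Category.id_comp _
  map_comp g h := by
    refine ConcreteCategory.hom_ext _ _ fun x => Subtype.ext ?_
    exact Category.assoc _ _ _

variable {P₀ L} (hbc : ∀ {T T' : Over S} (g : T' ⟶ T) (a : T ⟶ P₀), L T a → L T' (g ≫ a))

lemma sub_map {T T' : Over S} (g : T' ⟶ T) (x : (sub P₀ L hbc).obj (op T)) :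
    ((sub P₀ L hbc).map g.op x).1 = g ≫ x.1 := rfl

/-- The inclusion of the subsheaf. -/
def incl : ToSch (sub P₀ L hbc) P₀ where
  π x := x.1
  nat _ _ := rfl

theorem isEtSheaf_sub
    (hloc : ∀ {T : Over S} (𝒰 : ECov T) (a : T ⟶ P₀), (∀ i, L _ (𝒰.j i ≫ a)) → L T a) :
    IsEtSheaf (sub P₀ L hbc) := by
  intro T 𝒰 x hx
  obtain ⟨k, hk⟩ := glue_hom_etCov 𝒰 (fun i => (x i).1) (fun i l W a b hab =>
    congrArg Subtype.val (hx i l W a b hab))
  have hL : L T k := by
    let 𝒱 : ECov T := { ι := 𝒰.ι, V := 𝒰.V, j := 𝒰.j, isEtale := 𝒰.isEtale, covers := 𝒰.covers }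
    refine hloc 𝒱 k (fun i => ?_)
    change L _ (𝒰.j i ≫ k)
    rw [hk i]
    exact (x i).2
  refine ⟨⟨k, hL⟩, fun i => Subtype.ext (hk i), fun y hy => Subtype.ext ?_⟩
  apply hom_ext_etCov 𝒰
  intro i
  rw [hk i]
  exact congrArg Subtype.val (hy i)

/-- A chart of the condition gives a chart of the subsheaf. -/
theorem nonempty_chart {κ : P₀.left} {V A : Over S} (j : V ⟶ P₀) (a : A ⟶ V) (hV : IsAffine V.left)
    (hj : Etale j.left) (hκ : κ ∈ Set.range j.left) (ha : IsClosedImmersion a.left)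
    (h : ∀ (T : Over S) (v : T ⟶ V), L T (v ≫ j) ↔ ∃ g : T ⟶ A, g ≫ a = v) :
    Nonempty (Chart (incl hbc) κ) := by
  have hξ : L A (a ≫ j) := (h A a).mpr ⟨𝟙 A, Category.id_comp _⟩
  have hmono : Mono a := by
    have : Mono ((Over.forget S).map a) := inferInstanceAs (Mono a.left)
    exact (Over.forget S).mono_of_mono_map this
  exact ⟨{ V := V, A := A, j := j, a := a, ξ := (⟨a ≫ j, hξ⟩ : { b : A ⟶ P₀ // L A b }), etale := hj, mem := hκ, affV := hV,
           aff := inferInstance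
           univ := by
             refine ⟨rfl, fun T v x hx => ?_⟩
             have hx' : x.1 = v ≫ j := hx
             have hLv : L T (v ≫ j) := by
               rw [← hx']
               exact x.2
             obtain ⟨g, hg⟩ := (h T v).mp hLv
             refine ⟨g, ⟨hg, Subtype.ext ?_⟩, fun g' hg' => ?_⟩
             · change g ≫ a ≫ j = x.1
               rw [← Category.assoc, hg, hx']
             · rw [← cancel_mono a, hg, hg'.1] }⟩

include hbc in
/-- **Étale local closed conditions are closed subschemes.** -/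
theorem exists_closed'
    (hloc : ∀ {T : Over S} (𝒰 : ECov T) (a : T ⟶ P₀), (∀ i, L _ (𝒰.j i ≫ a)) → L T a)
    (hchart : ∀ κ : P₀.left, ∃ (V A : Over S) (j : V ⟶ P₀) (a : A ⟶ V), IsAffine V.left ∧ Etale j.left ∧
      κ ∈ Set.range j.left ∧ IsClosedImmersion a.left ∧
      ∀ (T : Over S) (v : T ⟶ V), L T (v ≫ j) ↔ ∃ g : T ⟶ A, g ≫ a = v) :
    ∃ (K : Over S) (ι : K ⟶ P₀), IsClosedImmersion ι.left ∧
      ∀ (T : Over S) (a : T ⟶ P₀), L T a ↔ ∃ h : T ⟶ K, h ≫ ι = a := by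
  obtain ⟨K, Z, -, hK⟩ := exists_of_etale_affine (isEtSheaf_sub hbc hloc) (incl hbc) (fun κ => by
    obtain ⟨V, A, j, a, hV, hj, hκ, ha, h⟩ := hchart κ
    exact nonempty_chart hbc j a hV hj hκ ha h)
  let ι : K ⟶ P₀ := Z.1
  have hι : ∀ (T : Over S) (a : T ⟶ P₀), L T a ↔ ∃ h : T ⟶ K, h ≫ ι = a := by
    intro T a
    constructor
    · intro hL
      obtain ⟨g, hg, -⟩ := hK T (⟨a, hL⟩ : { b : T ⟶ P₀ // L T b })
      exact ⟨g, congrArg Subtype.val hg⟩
    · rintro ⟨h, rfl⟩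
      exact hbc h Z.1 Z.2
  have hmono : ∀ (T : Over S) (g g' : T ⟶ K), g ≫ ι = g' ≫ ι → g = g' := by
    intro T g g' hgg
    exact (hK T (⟨g' ≫ ι, hbc g' Z.1 Z.2⟩ : { b : T ⟶ P₀ // L T b })).unique (Subtype.ext hgg) rfl
  refine ⟨K, ι, ?_, hι⟩
  apply Groth.Agent.Sga3B.RepDescent.of_etale_cover (P := @IsClosedImmersion)
  intro κ
  obtain ⟨V, A, j, a, hV, hj, hκ, ha, h⟩ := hchart κ
  refine ⟨V.left, j.left, hj, hκ, ?_⟩
  -- `A` is the base change of `K` to `V`
  obtain ⟨t, ht⟩ := (hι A (a ≫ j)).mp ((h A a).mpr ⟨𝟙 A, Category.id_comp _⟩)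
  have comm : t.left ≫ ι.left = a.left ≫ j.left := by
    rw [← Over.comp_left, ← Over.comp_left, ht]
  have key : ∀ (W : Scheme.{u}) (k₁ : W ⟶ K.left) (k₂ : W ⟶ V.left), k₁ ≫ ι.left = k₂ ≫ j.left →
      ∃ l : W ⟶ A.left, l ≫ t.left = k₁ ∧ l ≫ a.left = k₂ := by
    intro W k₁ k₂ hk
    let WS : Over S := Over.mk (k₁ ≫ K.hom)
    let m₁ : WS ⟶ K := Over.homMk k₁ rfl
    let m₂ : WS ⟶ V := Over.homMk k₂ (by
      change k₂ ≫ V.hom = k₁ ≫ K.hom
      rw [← Over.w j, ← Over.w ι, ← Category.assoc, ← Category.assoc, hk])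
    have hm : m₁ ≫ ι = m₂ ≫ j := by
      ext1
      exact hk
    obtain ⟨g, hg⟩ := (h WS m₂).mp ((hι WS _).mpr ⟨m₁, hm⟩)
    have hgt : g ≫ t = m₁ := by
      apply hmono
      rw [Category.assoc, ht, ← Category.assoc, hg, hm]
    exact ⟨g.left, congrArg CommaMorphism.left hgt, congrArg CommaMorphism.left hg⟩
  have hsq : IsPullback t.left a.left ι.left j.left := by
    refine ⟨⟨comm⟩, ⟨PullbackCone.IsLimit.mk comm (fun s => (key _ s.fst s.snd s.condition).choose)
      (fun s => (key _ s.fst s.snd s.condition).choose_spec.1)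
      (fun s => (key _ s.fst s.snd s.condition).choose_spec.2) (fun s m _ hm₂ => ?_)⟩⟩
    rw [← cancel_mono a.left, hm₂]
    exact (key _ s.fst s.snd s.condition).choose_spec.2.symm
  rw [← hsq.isoPullback_inv_snd]
  infer_instance

/-- The form with a monomorphism, affine and locally of finite type. -/
theorem exists_closed {S : Scheme.{u}} (P₀ : Over S) (L : ∀ T : Over S, (T ⟶ P₀) → Prop)
    (hbc : ∀ {T T' : Over S} (g : T' ⟶ T) (a : T ⟶ P₀), L T a → L T' (g ≫ a))
    (hloc : ∀ {T : Over S} (𝒰 : ECov T) (a : T ⟶ P₀), (∀ i, L _ (𝒰.j i ≫ a)) → L T a)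
    (hchart : ∀ κ : P₀.left, ∃ (V A : Over S) (j : V ⟶ P₀) (a : A ⟶ V), IsAffine V.left ∧ Etale j.left ∧
      κ ∈ Set.range j.left ∧ IsClosedImmersion a.left ∧
      ∀ (T : Over S) (v : T ⟶ V), L T (v ≫ j) ↔ ∃ g : T ⟶ A, g ≫ a = v) :
    ∃ (K : Over S) (ι : K ⟶ P₀), Mono ι ∧ IsAffineHom ι.left ∧ LocallyOfFiniteType ι.left ∧
      ∀ (T : Over S) (a : T ⟶ P₀), L T a ↔ ∃ h : T ⟶ K, h ≫ ι = a := by
  obtain ⟨K, ι, hι, h⟩ := exists_closed' (fun g a => hbc g a) hloc hchart
  have hm : Mono ι := by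
    have : Mono ((Over.forget S).map ι) := inferInstanceAs (Mono ι.left)
    exact (Over.forget S).mono_of_mono_map this
  exact ⟨K, ι, hm, inferInstance, inferInstance, h⟩

end Groth.Agent.Pic13.H243.ClosedSub
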