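import Groth.Agent.Pic13.H126.NilSq

/-!
# Rigidification along the empty scheme

For the empty scheme `Y`, every invertible module on `Z` has exactly one rigidification along `σ : Y ⟶ Z`
(`toPic_surjective`, `toPic_injective`); square-zero thickenings give quads (`quad_empty`).
-/

set_option autoImplicit false
universe u

open CategoryTheory CategoryTheory.Limits AlgebraicGeometry Opposite TopologicalSpace

namespace Groth.Agent.Pic13.H243.EmptyRig

open Groth.Agent
open Groth.Agent.Fdesc.LocGen Groth.Agent.Pic13.H958.AffLift Groth.Agent.Pic13.H126.NilSq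
open Groth.Agent.Grpsch Groth.Agent.Pic13.H602.Rig Groth.Agent.Pic13.H557.RigGrp Groth.Agent.Picfga.LineHom
  Groth.Agent.Picfga.LineFam

section Empty

variable {Y : Scheme.{u}} [IsEmpty Y]

theorem le_bot (V : Y.Opens) : V ≤ ⊥ := fun y _ => isEmptyElim y

theorem fun_ext {V : Y.Opens} (a b : Γ(Y, V)) : a = b := by
  refine ores_ext (fun i : Empty => i.elim) (fun i => i.elim) ?_ (fun i => i.elim)
  exact (le_bot V).trans bot_le

theorem sec_ext {M : Y.Modules} {V : Y.Opens} (a b : Γ(M, V)) : a = b := by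
  refine res_ext M (fun i : Empty => i.elim) (fun i => i.elim) ?_ (fun i => i.elim)
  exact (le_bot V).trans bot_le

theorem isGen_of_isEmpty {M : Y.Modules} {V : Y.Opens} (e : Γ(M, V)) : IsGen e :=
  fun _ _ => ⟨fun _ _ _ => fun_ext _ _, fun _ => ⟨1, sec_ext _ _⟩⟩

variable {Z : Scheme.{u}} (σ : Y ⟶ Z)

theorem app_eq_zero (V : Z.Opens) (a : Γ(Z, V)) : σ.app V a = 0 := fun_ext _ _

/-- Every module has a rigidification along the empty scheme. -/
noncomputable def fam (L : Z.Modules) : Fam σ L (Coh.structureModule Y) where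
  map _ := 0
  smul _ _ := sec_ext _ _
  res _ _ := sec_ext _ _
  gen _ := isGen_of_isEmpty _

/-- Rigidified module. -/
noncomputable def rb (L : Z.Modules) (hL : PicF.IsInvertible L) : RB σ := ⟨L, hL, fam σ L⟩

theorem toPic_surjective : Function.Surjective (toPic σ) := by
  intro c
  obtain ⟨L, hL, rfl⟩ := PicGrp.exists_mk c
  exact ⟨(rb σ L hL).cls, rfl⟩

theorem toPic_injective : Function.Injective (toPic σ) := by
  rw [injective_iff_map_eq_one]
  intro c hc
  obtain ⟨u, rfl⟩ := toPic_eq_one_iff.1 hc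
  have hu : u = 1 := Units.ext (fun_ext _ _)
  rw [hu, map_one]

end Empty

section Quad

/-- Squares of empty schemes are cartesian. -/
theorem isPullback_empty {Z Z₀ Y Y₀ : Scheme.{u}} [IsEmpty Y] [IsEmpty Y₀] (k : Y₀ ⟶ Y) (σ₀ : Y₀ ⟶ Z₀)
    (σ : Y ⟶ Z) (i : Z₀ ⟶ Z) : IsPullback k σ₀ σ i := by
  have w : k ≫ σ = σ₀ ≫ i := isInitialOfIsEmpty.hom_ext _ _
  have he : IsEmpty ↑(pullback σ i) := Function.isEmpty (pullback.fst σ i)
  let e : Y₀ ≅ pullback σ i := asIso (pullback.lift k σ₀ w)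
  exact IsPullback.of_iso_pullback ⟨w⟩ e (pullback.lift_fst _ _ _) (pullback.lift_snd _ _ _)

/-- The quad of a square-zero thickening, with the empty rigidification. -/
theorem quad_empty {Z Z₀ Y Y₀ : Scheme.{u}} [IsEmpty Y] [IsEmpty Y₀] {i : Z₀ ⟶ Z} [IsClosedImmersion i]
    (hsq : i.ker ^ 2 = ⊥) (k : Y₀ ⟶ Y) (σ₀ : Y₀ ⟶ Z₀) (σ : Y ⟶ Z) : Quad i σ σ₀ k :=
  ⟨isPullback_empty k σ₀ σ i, inferInstance, inferInstance, fun a a' ha ha' => mul_eq_zero hsq a a' ha ha'⟩

end Quad

end Groth.Agent.Pic13.H243.EmptyRig
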