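import Groth.Agent.Pic13.H243.NilObsCore
import Groth.Agent.Ega3A.PicDiv

/-!
# The obstruction to lifting a class of invertible modules along a square-zero thickening

`exists_obs`: in the situation `NSit i f`, `i.ker ^ 2 = ⊥`, for a class `c₀` on `X₀_V`, `V` affine, there is a closed
subscheme `A` of `V` such that an affine `T ⟶ V` factors through `A` iff the pull back of `c₀` to `X₀_T` lifts to `X_T`.
-/

set_option autoImplicit false
universe u

open CategoryTheory CategoryTheory.Limits AlgebraicGeometry Opposite TopologicalSpace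

namespace Groth.Agent.Pic13.H243.NilObs

open Groth.Agent Groth.Agent.Grpsch Groth.Agent.Grpsch.PicGrp Groth.Agent.Ega3A.PicDiv
open Groth.Agent.Fdesc Groth.Agent.Fdesc.LocGen
open Groth.Agent.Pic13.H958.RelUnits Groth.Agent.Pic13.H602.Rig Groth.Agent.Pic13.H958.Coc
open Groth.Agent.Pic13.H958.AffLift Groth.Agent.Pic13.H958.LocRig
open Groth.Agent.Pic13.H557.RigGrp
open Groth.Agent.Pic13.H126.NilSit Groth.Agent.Pic13.H126.NilSq
open Groth.Agent.Pic13.H243.EmptyRig Groth.Agent.Pic13.H243.NilObsCore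

/-- The closed subscheme of an affine scheme defined by the vanishing of functions, with its universal property. -/
theorem exists_closed_affine {S : Scheme.{u}} (V : Over S) [IsAffine V.left] {κ : Type} (r : κ → Γ(V.left, ⊤)) :
    ∃ (A : Over S) (a : A ⟶ V), IsClosedImmersion a.left ∧ ∀ (T : Over S) [IsAffine T.left] (v : T ⟶ V),
      (∀ k, v.left.appTop (r k) = 0) ↔ ∃ g : T ⟶ A, g ≫ a = v := by
  let I : Ideal Γ(V.left, ⊤) := Ideal.span (Set.range r)
  let B : CommRingCat.{u} := CommRingCat.of (Γ(V.left, ⊤) ⧸ I)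
  let q : Γ(V.left, ⊤) ⟶ B := CommRingCat.ofHom (Ideal.Quotient.mk I)
  have hq : Function.Surjective q.hom := Ideal.Quotient.mk_surjective
  have hcl : IsClosedImmersion (Spec.map q) := IsClosedImmersion.spec_of_surjective q hq
  let a₀ : Spec B ⟶ V.left := Spec.map q ≫ V.left.isoSpec.inv
  have ha₀ : ∀ k, a₀.appTop (r k) = 0 := by
    intro k
    have h1 : a₀.appTop ≫ (Scheme.ΓSpecIso B).hom = q := by
      apply Spec.map_injective
      have h2 := Scheme.isoSpec_hom_naturality a₀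
      rw [Category.assoc, Iso.inv_hom_id, Category.comp_id, Scheme.isoSpec_Spec_hom] at h2
      rw [Spec.map_comp]
      exact h2
    have h3 : (Scheme.ΓSpecIso B).hom (a₀.appTop (r k)) = 0 := by
      have h4 := congr(($h1).hom (r k))
      refine h4.trans ?_
      exact Ideal.Quotient.eq_zero_iff_mem.2 (Ideal.subset_span ⟨k, rfl⟩)
    have h5 : Function.Injective (Scheme.ΓSpecIso B).hom :=
      (ConcreteCategory.bijective_of_isIso (Scheme.ΓSpecIso B).hom).1
    exact h5 (h3.trans (map_zero _).symm)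
  let A : Over S := Over.mk (a₀ ≫ V.hom)
  let a : A ⟶ V := Over.homMk a₀ rfl
  refine ⟨A, a, (inferInstance : IsClosedImmersion (Spec.map q ≫ V.left.isoSpec.inv)), fun T _ v => ?_⟩
  constructor
  · intro h
    have hle : ∀ x ∈ I, v.left.appTop.hom x = 0 := by
      intro x hx
      have h1 : I ≤ RingHom.ker v.left.appTop.hom := by
        rw [Ideal.span_le]
        rintro _ ⟨k, rfl⟩
        exact h k
      exact h1 hx
    let φ : B ⟶ Γ(T.left, ⊤) := CommRingCat.ofHom (Ideal.Quotient.lift I v.left.appTop.hom hle)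
    have hφ : q ≫ φ = v.left.appTop := by
      ext x
      rfl
    have h2 : (T.left.isoSpec.hom ≫ Spec.map φ) ≫ a₀ = v.left := by
      have h3 := Scheme.isoSpec_hom_naturality v.left
      rw [← hφ, Spec.map_comp] at h3
      change (T.left.isoSpec.hom ≫ Spec.map φ) ≫ Spec.map q ≫ V.left.isoSpec.inv = v.left
      rw [Category.assoc, ← Category.assoc (Spec.map φ), ← Category.assoc, h3, Category.assoc,
        Iso.hom_inv_id, Category.comp_id]
    refine ⟨Over.homMk (T.left.isoSpec.hom ≫ Spec.map φ) ?_, ?_⟩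
    · change (T.left.isoSpec.hom ≫ Spec.map φ) ≫ a₀ ≫ V.hom = T.hom
      rw [← Category.assoc, h2, Over.w]
    · exact Over.OverMorphism.ext h2
  · rintro ⟨g, rfl⟩ k
    have h1 : (g ≫ a).left.appTop = a₀.appTop ≫ g.left.appTop := by
      change (g.left ≫ a₀).appTop = _
      rw [Scheme.Hom.comp_appTop]
    rw [h1, CommRingCat.comp_apply, ha₀, map_zero]

section Squares

variable {X₀ X S : Scheme.{u}} (i : X₀ ⟶ X) (f : X ⟶ S)

theorem isPullback_fst (V : Over S) :
    IsPullback (wT f i V) (pullback.fst (i ≫ f) V.hom) (pullback.fst f V.hom) i := by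
  refine IsPullback.of_right (h₁₂ := PicF.XTproj f V) (h₂₂ := f) (v₁₃ := V.hom) ?_ (wT_fst f i V)
    (IsPullback.of_hasPullback f V.hom).flip
  rw [PicF.XTproj, wT_snd]
  exact (IsPullback.of_hasPullback (i ≫ f) V.hom).flip

theorem isPullback_map {T V : Over S} (v : T ⟶ V) :
    IsPullback (wT f i T) (PicF.XTmap (i ≫ f) v) (PicF.XTmap f v) (wT f i V) := by
  refine IsPullback.of_right (h₁₂ := PicF.XTproj f T) (h₂₂ := PicF.XTproj f V) (v₁₃ := v.left) ?_
    (wT_XTmap f i v) (Picfga.HilbPull.isPullback_XTmap f v).flip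
  rw [PicF.XTproj, PicF.XTproj, wT_snd, wT_snd]
  exact (Picfga.HilbPull.isPullback_XTmap (i ≫ f) v).flip

end Squares

/-- **The obstruction scheme.** -/
theorem exists_obs {X₀ X S : Scheme.{u}} {i : X₀ ⟶ X} {f : X ⟶ S} (h : NSit i f) (hsq : i.ker ^ 2 = ⊥)
    (V : Over S) [IsAffine V.left] (c₀ : Pic (PicF.XT (i ≫ f) V)) :
    ∃ (A : Over S) (a : A ⟶ V), IsClosedImmersion a.left ∧ ∀ (T : Over S) [IsAffine T.left] (v : T ⟶ V),
      (∃ c : Pic (PicF.XT f T), PicGrp.pull (H602.Rig.wT f i T) c = pu (i ≫ f) v c₀) ↔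
        ∃ g : T ⟶ A, g ≫ a = v := by
  have := h.aff
  have := h.ci
  -- the situation over `V`
  have HV₀ := isPullback_fst i f V
  have hV := h.bc (IsPullback.of_hasPullback f V.hom) HV₀
  have hsqV := sq_of_isPullback HV₀ hsq
  have := hV.ci
  have := hV.qc
  have := hV.sep
  have q₁ : Quad (wT f i V) (Scheme.emptyTo (PicF.XT f V)) (Scheme.emptyTo (PicF.XT (i ≫ f) V)) (𝟙 ∅) :=
    quad_empty hsqV _ _ _
  obtain ⟨c₀, rfl⟩ := toPic_surjective (Scheme.emptyTo (PicF.XT (i ≫ f) V)) c₀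
  obtain ⟨R₀₁, rfl⟩ := c₀.exists_rep
  have : CompactSpace (PicF.XT f V) := QuasiCompact.compactSpace_of_compactSpace (PicF.XTproj f V)
  obtain ⟨n, U, hcov, hUa, e₀, he₀⟩ := exists_cover q₁ R₀₁
  have : (PicF.XT f V).IsSeparated := by
    rw [Scheme.isSeparated_iff, ← terminal.comp_from (PicF.XTproj f V)]
    infer_instance
  have hU : ∀ s : Finset (Fin n), s.Nonempty → IsAffineOpen (s.inf U) :=
    Ega3B.CechBC.isAffineOpen_finset_inf U hUa
  have hle : ∀ a, (wT f i V ≫ 𝟙 _) ⁻¹ᵁ U a ≤ wT f i V ⁻¹ᵁ U a := fun a => by rw [Category.comp_id]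
  obtain ⟨g, z, hgz, hz, htr⟩ := exists_cocycle (U := U) q₁ (𝟙 _)
    (fun a => (he₀ a).res (hle a)) (fun s hs => (hU s hs).preimage (𝟙 _))
  obtain ⟨κ, hκ, r, hr⟩ := exists_coeff (σ₀₁ := Scheme.emptyTo (PicF.XT (i ≫ f) V)) hV
    (IsPullback.of_horiz_isIso ⟨by rw [Category.id_comp, Category.comp_id]⟩ :
      IsPullback (𝟙 (PicF.XT f V)) (PicF.XTproj f V) (PicF.XTproj f V) (𝟙 V.left))
    (IsPullback.of_vert_isIso ⟨by rw [Category.id_comp, Category.comp_id]⟩ :
      IsPullback (wT f i V) (𝟙 (PicF.XT (i ≫ f) V)) (𝟙 (PicF.XT f V)) (wT f i V)) hcov hU z hz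
  obtain ⟨A, a, ha, hA⟩ := exists_closed_affine V r
  refine ⟨A, a, ha, fun T _ v => ?_⟩
  rw [← hA T v]
  have HT := Picfga.HilbPull.isPullback_XTmap f v
  have HT₀ := isPullback_map i f v
  have hci : IsClosedImmersion (wT f i T) := MorphismProperty.of_isPullback HT₀.flip hV.ci
  have q₂ : Quad (wT f i T) (Scheme.emptyTo (PicF.XT f T)) (Scheme.emptyTo (PicF.XT (i ≫ f) T)) (𝟙 ∅) :=
    quad_empty (sq_of_isPullback HT₀ hsqV) _ _ _
  let p : PairHom (𝟙 (PicF.XT f V)) (Scheme.emptyTo (PicF.XT f V)) (PicF.XTmap f v)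
      (Scheme.emptyTo (PicF.XT f T)) := ⟨PicF.XTmap f v, 𝟙 ∅, Category.comp_id _, Scheme.empty_ext _ _⟩
  let p₀ : PairHom (wT f i V ≫ 𝟙 (PicF.XT f V)) (Scheme.emptyTo (PicF.XT (i ≫ f) V))
      (wT f i T ≫ PicF.XTmap f v) (Scheme.emptyTo (PicF.XT (i ≫ f) T)) :=
    ⟨PicF.XTmap (i ≫ f) v, 𝟙 ∅, by rw [Category.comp_id, wT_XTmap], Scheme.empty_ext _ _⟩
  have hp : p₀.h ≫ wT f i V = wT f i T ≫ p.h := (wT_XTmap f i v).symm
  have haff : IsAffineHom (PicF.XTmap f v) := MorphismProperty.of_isPullback HT.flip inferInstance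
  exact (exists_pic_iff q₁ q₂ p p₀ hp hgz (fun a => (he₀ a).res (hle a)) htr hcov
    (fun a => (hUa a).preimage (PicF.XTmap f v))).trans (hr p p₀ hp HT HT₀ HT.w)

end Groth.Agent.Pic13.H243.NilObs
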