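import Groth.Agent.Pic13.H126.NilNat
import Groth.Agent.Pic13.H958.Lifts
import Groth.Agent.Pic13.H243.EmptyRig

/-!
# Lifting classes along square-zero thickenings and 2-cocycles
-/

set_option autoImplicit false
set_option linter.unusedSectionVars false
universe u

open CategoryTheory CategoryTheory.Limits AlgebraicGeometry Opposite TopologicalSpace

namespace Groth.Agent.Pic13.H243.NilObsCore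

open Groth.Agent Groth.Agent.Grpsch
open Groth.Agent.Fdesc Groth.Agent.Fdesc.LocGen Groth.Agent.Picfga Groth.Agent.Picfga.LineHom
  Groth.Agent.Picfga.LineDescent Groth.Agent.Picfga.LineFam
open Groth.Agent.Pic13.H958.RelUnits Groth.Agent.Pic13.H602.Rig Groth.Agent.Pic13.H958.Coc
open Groth.Agent.Pic13.H958.AffLift Groth.Agent.Pic13.H958.Ord Groth.Agent.Pic13.H958.Kil
open Groth.Agent.Pic13.H557.RigGrp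
open Groth.Agent.Pic13.H126.NilAlg Groth.Agent.Pic13.H126.NilSit Groth.Agent.Pic13.H126.NilSq
open Groth.Agent.Pic13.H126.NilKP Groth.Agent.Pic13.H126.NilNat
open Groth.Agent.Pic13.H243.EmptyRig
open Groth.Agent.Ega3B Groth.Agent.Ega3B.CubeData Groth.Agent.Ega3B.CombRes Groth.Agent.Ega3B.Cube

section Core

variable {W Z₁ Z₀₁ Y₁ Y₀₁ Z₂ Z₀₂ Y₂ Y₀₂ : Scheme.{u}} [IsEmpty Y₂] [IsEmpty Y₀₂]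
  {i₁ : Z₀₁ ⟶ Z₁} {σ₁ : Y₁ ⟶ Z₁} {σ₀₁ : Y₀₁ ⟶ Z₀₁}
  {k₁ : Y₀₁ ⟶ Y₁} {i₂ : Z₀₂ ⟶ Z₂} {σ₂ : Y₂ ⟶ Z₂} {σ₀₂ : Y₀₂ ⟶ Z₀₂}
  {k₂ : Y₀₂ ⟶ Y₂} (q₁ : Quad i₁ σ₁ σ₀₁ k₁) (q₂ : Quad i₂ σ₂ σ₀₂ k₂) {b₁ : Z₁ ⟶ W} {b₂ : Z₂ ⟶ W}
  (p : PairHom b₁ σ₁ b₂ σ₂) (p₀ : PairHom (i₁ ≫ b₁) σ₀₁ (i₂ ≫ b₂) σ₀₂) (hp : p₀.h ≫ i₁ = i₂ ≫ p.h)
  {ι : Type} [LinearOrder ι] [Fintype ι] {U : ι → W.Opens}
  {g : (cech U).K 1 (relUnits b₁ σ₁).obj} {z : (cech U).K 2 (KP b₁ i₁ σ₁)}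
  (hz : (cech U).δ 1 _ g = (cech U).Kmap 2 (expP q₁ b₁) z)
  {R₀₁ : RB σ₀₁} {e₀ : ∀ a, Γ(R₀₁.L, (i₁ ≫ b₁) ⁻¹ᵁ U a)} (he₀ : ∀ a, Rigid R₀₁ (e₀ a))
  (htr₀ : Tr (i₁ ≫ b₁) σ₀₁ U R₀₁ e₀ ((cech U).Kmap 1 (relMap (q₁.pair b₁)).hom g))

include q₂ hz he₀ htr₀ in
/-- A class lifts iff the cocycle is a coboundary. -/
theorem exists_pic_iff (hU : ⨆ a, U a = ⊤) (hU₂ : ∀ a, IsAffineOpen (b₂ ⁻¹ᵁ U a)) :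
    (∃ c : PicGrp.Pic Z₂, PicGrp.pull i₂ c = PicGrp.pull p₀.h (toPic σ₀₁ R₀₁.cls)) ↔
      ∃ k : (cech U).K 1 (KP b₂ i₂ σ₂), (cech U).δ 1 _ k = - (cech U).Kmap 2 (kP p p₀ hp) z := by
  obtain ⟨R₀₂, ⟨A₀⟩⟩ := exists_pull R₀₁ p₀.sq.symm
  have h1 : PicGrp.pull p₀.h (toPic σ₀₁ R₀₁.cls) = toPic σ₀₂ R₀₂.cls := by
    rw [← toPic_pull p₀.sq.symm, A₀.pull_eq]
  rw [h1]
  constructor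
  · rintro ⟨c, hc⟩
    obtain ⟨c, rfl⟩ := toPic_surjective σ₂ c
    obtain ⟨R, rfl⟩ := c.exists_rep
    rw [← toPic_pull q₂.pb.w.symm] at hc
    obtain ⟨A⟩ := RCl.pull_eq_iff.1 (toPic_injective σ₀₂ hc)
    obtain ⟨k, -, hk⟩ := H958.Lifts.exists_has q₁ q₂ p p₀ hp hz A₀ he₀ htr₀ hU₂ A
    exact ⟨k, hk⟩
  · rintro ⟨k, hk⟩
    obtain ⟨R, ⟨A⟩, -⟩ := H958.Lifts.exists_of_cochain q₁ q₂ p p₀ hp hz A₀ he₀ htr₀ hU k hk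
    refine ⟨toPic σ₂ R.cls, ?_⟩
    rw [← toPic_pull q₂.pb.w.symm, A.pull_eq]

end Core

section Coc

variable {W Z₁ Z₀₁ Y₁ Y₀₁ : Scheme.{u}}
  {i₁ : Z₀₁ ⟶ Z₁} {σ₁ : Y₁ ⟶ Z₁} {σ₀₁ : Y₀₁ ⟶ Z₀₁}
  {k₁ : Y₀₁ ⟶ Y₁} (q₁ : Quad i₁ σ₁ σ₀₁ k₁) (b₁ : Z₁ ⟶ W)
  {ι : Type} [LinearOrder ι] [Fintype ι] {U : ι → W.Opens}
  {R₀₁ : RB σ₀₁} {e₀ : ∀ a, Γ(R₀₁.L, (i₁ ≫ b₁) ⁻¹ᵁ U a)} (he₀ : ∀ a, Rigid R₀₁ (e₀ a))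

include he₀ in
/-- The obstruction cocycle. -/
theorem exists_cocycle (hU : ∀ s : Finset ι, s.Nonempty → IsAffineOpen (b₁ ⁻¹ᵁ (s.inf U))) :
    ∃ (g : (cech U).K 1 (relUnits b₁ σ₁).obj) (z : (cech U).K 2 (KP b₁ i₁ σ₁)),
      (cech U).δ 1 _ g = (cech U).Kmap 2 (expP q₁ b₁) z ∧ (cech U).δ 2 _ z = 0 ∧
      Tr (i₁ ≫ b₁) σ₀₁ U R₀₁ e₀ ((cech U).Kmap 1 (relMap (q₁.pair b₁)).hom g) := by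
  obtain ⟨c, hc, htr⟩ := exists_tr' e₀ he₀
  obtain ⟨g, rfl⟩ := Kmap_relMap_surjective q₁ b₁ U 1 hU c
  obtain ⟨z, hz⟩ := exists_Kmap_exp q₁ b₁ U 2 ((cech U).δ 1 _ g) (by
    rw [← Data.δ_naturality]
    exact hc)
  refine ⟨g, z, hz.symm, ?_, htr⟩
  apply Kmap_exp_injective q₁ b₁ U 3
  rw [map_zero, ← Data.δ_naturality, hz]
  exact (cech U).δ_δ 1 g

end Coc

section Lin

variable {X₀ X S Z₁ Z₀₁ Y₁ Y₀₁ T₁ : Scheme.{u}} [IsEmpty Y₁] {i₀ : X₀ ⟶ X} {f : X ⟶ S}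
  {i₁ : Z₀₁ ⟶ Z₁} {σ₁ : Y₁ ⟶ Z₁} {σ₀₁ : Y₀₁ ⟶ Z₀₁} {b₁ : Z₁ ⟶ X} {g₁ : Z₀₁ ⟶ X₀} {τ₁ : Z₁ ⟶ T₁} {j₁ : T₁ ⟶ S}
  {ι : Type} [LinearOrder ι] [Fintype ι] {U : ι → X.Opens}

/-- The coefficients of the obstruction in a basis of the second cohomology. -/
theorem exists_coeff (h : NSit i₀ f) (H₁ : IsPullback b₁ τ₁ f j₁) (H₀₁ : IsPullback i₁ g₁ b₁ i₀) [IsAffine T₁]
    (hcov : ⨆ a, U a = ⊤) (hU : ∀ s : Finset ι, s.Nonempty → IsAffineOpen (s.inf U))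
    (z : (cech U).K 2 (KP b₁ i₁ σ₁)) (hz : (cech U).δ 2 _ z = 0) :
    ∃ (κ : Type) (_ : Fintype κ) (r : κ → Γ(T₁, ⊤)),
      ∀ {Z₂ Z₀₂ Y₂ Y₀₂ T₂ : Scheme.{u}} [IsEmpty Y₂] [IsAffine T₂] {i₂ : Z₀₂ ⟶ Z₂} {σ₂ : Y₂ ⟶ Z₂}
        {σ₀₂ : Y₀₂ ⟶ Z₀₂} {b₂ : Z₂ ⟶ X} {g₂ : Z₀₂ ⟶ X₀} {τ₂ : Z₂ ⟶ T₂} {j₂ : T₂ ⟶ S} {t : T₂ ⟶ T₁}
        (p : PairHom b₁ σ₁ b₂ σ₂) (p₀ : PairHom (i₁ ≫ b₁) σ₀₁ (i₂ ≫ b₂) σ₀₂) (hp : p₀.h ≫ i₁ = i₂ ≫ p.h)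
        (_ : IsPullback b₂ τ₂ f j₂) (_ : IsPullback i₂ g₂ b₂ i₀) (_ : p.h ≫ τ₁ = τ₂ ≫ t),
        (∃ k : (cech U).K 1 (KP b₂ i₂ σ₂), (cech U).δ 1 _ k = - (cech U).Kmap 2 (kP p p₀ hp) z) ↔
          ∀ k, t.appTop (r k) = 0 := by
  have hci := h.ci
  obtain ⟨κ, hκ, e, he⟩ := h.exists_hbasis U hcov hU
  let m₁ := fun n => modK b₁ i₁ σ₁ τ₁ U n
  have hB₁ := isHBasis (σ := σ₁) (fun V a _ => app_eq_zero σ₁ V a) h H₁ H₀₁ hU he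
  obtain ⟨r, y, hr⟩ := hB₁.exists_rep 1 z hz
  refine ⟨κ 1, hκ 1, r, ?_⟩
  intro Z₂ Z₀₂ Y₂ Y₀₂ T₂ _ _ i₂ σ₂ σ₀₂ b₂ g₂ τ₂ j₂ t p p₀ hp H₂ H₀₂ ht
  let m₂ := fun n => modK b₂ i₂ σ₂ τ₂ U n
  have hB₂ := isHBasis (σ := σ₂) (fun V a _ => app_eq_zero σ₂ V a) h H₂ H₀₂ hU he
  let s : (cech U).K 2 (KP b₂ i₂ σ₂) :=
    ∑ k, t.appTop (r k) • (cech U).Kmap 2 (psi H₀₂.w (fun V a _ => app_eq_zero σ₂ V a)) (e 1 k)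
  let y' : (cech U).K 1 (KP b₂ i₂ σ₂) := (cech U).Kmap 1 (kP p p₀ hp) y
  have hk : (cech U).Kmap 2 (kP p p₀ hp) z = s + (cech U).δ 1 _ y' := by
    have h1 := Kmap_kP_sum H₀₁.w H₀₂.w (fun V a _ => app_eq_zero σ₁ V a) (fun V a _ => app_eq_zero σ₂ V a)
      p p₀ hp U ht 2 r (e 1)
    have h2 := congrArg ((cech U).Kmap 2 (kP p p₀ hp)) hr
    refine h2.trans ((map_add _ _ _).trans ?_)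
    refine congrArg₂ (· + ·) h1 ?_
    exact ((cech U).δ_naturality 1 (kP p p₀ hp) y).symm
  rw [hk]
  have hiff := hB₂.exists_iff 1 (fun k => t.appTop (r k))
  constructor
  · rintro ⟨k, hk'⟩
    have h3 := hiff.1 ⟨-k - y', by
      change (cech U).δ 1 _ (-k - y') = s
      rw [map_sub, map_neg, hk']
      abel⟩
    exact fun k => congrFun h3 k
  · intro h0
    obtain ⟨k, hk'⟩ := hiff.2 (funext h0)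
    have hk'' : (cech U).δ 1 _ k = s := hk'
    refine ⟨-k - y', ?_⟩
    rw [map_sub, map_neg, hk'']
    abel

end Lin

end Groth.Agent.Pic13.H243.NilObsCore
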